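import Groth.Agent.HProj.Alg
import Groth.Agent.ProjPt.Sections
import Mathlib.AlgebraicGeometry.ProjectiveSpectrum.Functor

/-!
# A closed subscheme of projective space is the relative `Proj` of its graded algebra
-/

universe u

open CategoryTheory CategoryTheory.Limits AlgebraicGeometry TopologicalSpace Opposite MvPolynomial HomogeneousLocalization
open scoped HomogeneousIdeal

set_option backward.isDefEq.respectTransparency false
set_option backward.isDefEq.respectTransparency.types false
set_option linter.style.haveILetI false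

noncomputable section

namespace Groth.Agent.HProj

open Groth.Agent

theorem pt_map {A σ B τ : Type u} [CommRing A] [SetLike σ A] [AddSubgroupClass σ A] [CommRing B] [SetLike τ B]
    [AddSubgroupClass τ B] {𝒜 : ℕ → σ} [GradedRing 𝒜] {ℬ : ℕ → τ} [GradedRing ℬ] (g : 𝒜 →+*ᵍ ℬ)
    (hg : ℬ₊ ≤ (𝒜₊).map g) {W : Scheme.{u}} (f : B →+* Γ(W, ⊤)) {t : A} {d : ℕ} (ht : t ∈ 𝒜 d) (hd : 0 < d)
    (hu : IsUnit (f (g t))) (f' : A →+* Γ(W, ⊤)) (hf : ∀ a, f (g a) = f' a) (hu' : IsUnit (f' t)) :
    ProjPt.pt ℬ f (g.2 ht) hd hu ≫ Proj.map g hg = ProjPt.pt 𝒜 f' ht hd hu' := by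
  rw [ProjPt.pt, ProjPt.pt, Category.assoc, Category.assoc]
  erw [Proj.awayι_comp_map g hg hd t ht]
  rw [← Spec.map_comp_assoc, ← CommRingCat.ofHom_comp]
  congr 3
  refine congrArg _ (RingHom.ext fun x => ?_)
  obtain ⟨n, a, ha, rfl⟩ := Away.mk_surjective 𝒜 ht x
  rw [RingHom.comp_apply, Away.map_mk]
  refine Eq.symm ((ProjPt.coordHom_mk_eq_iff 𝒜 f' hu' ht n a ha _).2 ?_)
  rw [← hf, ← hf]
  exact ProjPt.coordHom_mk_mul ℬ f hu (g.2 ht) n (g a) (g.2 ha)

variable {S X : Scheme.{u}} {N : ℕ} (i : X ⟶ CohB1.ProjSpaceOver N S) [IsClosedImmersion i]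
variable {U : S.Opens} (hU : IsAffineOpen U)

/-- A chart of `X` over `U` as points of `Proj`. -/
def toProjPiece (j : Fin (N + 1)) {W : X.Opens} (hW : W ≤ piece i U j) :
    W.toScheme ⟶ Proj ((grAlg i).deg U hU) :=
  ProjPt.pt ((grAlg i).deg U hU) (θ i hU j hW) (T_mem i U hU j) one_pos (isUnit_θ_T i hU j hW)

theorem homOfLE_toProjPiece (j : Fin (N + 1)) {W W' : X.Opens} (hW : W ≤ piece i U j) (e : W' ≤ W) :
    X.homOfLE e ≫ toProjPiece i hU j hW = toProjPiece i hU j (e.trans hW) := by
  rw [toProjPiece, ProjPt.comp_pt]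
  exact ProjPt.pt_congr _ _ _ (res_θ i hU j hW e) _ _ _ _

theorem toProjPiece_indep (j l : Fin (N + 1)) {W : X.Opens} (hj : W ≤ piece i U j) (hl : W ≤ piece i U l) :
    toProjPiece i hU j hj = toProjPiece i hU l hl := by
  have hu : IsUnit (θ i hU j hj (T i U l)) := by
    rw [θ_T]
    refine IsUnit.of_mul_eq_one (co (hl.trans (piece_le_chart i U l)) j) ?_
    rw [← co_mul (hl.trans (piece_le_chart i U l)) (hj.trans (piece_le_chart i U j)) j, co_self]
  rw [toProjPiece, toProjPiece, ProjPt.pt_indep _ (θ i hU j hj) (T_mem i U hU j) one_pos (isUnit_θ_T i hU j hj)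
    (T_mem i U hU l) one_pos hu]
  exact (ProjPt.pt_scale _ (θ i hU j hj) (θ i hU l hl) (T_mem i U hU l) one_pos _
    (fun d x hx => θ_scale i hU j l hj hl d x hx) hu _).symm

theorem toProjPiece_preimage (j l : Fin (N + 1)) :
    toProjPiece i hU j (le_refl (piece i U j)) ⁻¹ᵁ Proj.basicOpen ((grAlg i).deg U hU) (T i U l) =
      (piece i U j).ι ⁻¹ᵁ chartOpen i l := by
  rw [toProjPiece, ProjPt.pt_preimage_basicOpen _ _ _ _ _ (T_mem i U hU l) one_pos, θ_T]
  exact basicOpen_co _ _

theorem bijective_coord (l : Fin (N + 1)) :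
    Function.Bijective (ProjPt.coordHom ((grAlg i).deg U hU) (θ i hU l (le_refl (piece i U l)))
      (isUnit_θ_T i hU l (le_refl _))) := by
  classical
  have h1 : θ i hU l (le_refl (piece i U l)) (T i U l) = 1 := by rw [θ_T, co_self]
  have hmk : ∀ (n : ℕ) (a) (ha : a ∈ (grAlg i).deg U hU (n • 1)),
      ProjPt.coordHom ((grAlg i).deg U hU) (θ i hU l (le_refl (piece i U l))) (isUnit_θ_T i hU l (le_refl _))
        (Away.mk ((grAlg i).deg U hU) (T_mem i U hU l) n a ha) = θ i hU l (le_refl (piece i U l)) a := by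
    intro n a ha
    have := ProjPt.coordHom_mk_mul ((grAlg i).deg U hU) (θ i hU l (le_refl (piece i U l))) (isUnit_θ_T i hU l (le_refl _)) (T_mem i U hU l) n a ha
    rwa [h1, one_pow, mul_one] at this
  constructor
  · rw [injective_iff_map_eq_zero]
    intro x hx
    obtain ⟨n, a, ha, rfl⟩ := Away.mk_surjective ((grAlg i).deg U hU) (T_mem i U hU l) x
    rw [hmk] at hx
    obtain ⟨P, hP, rfl⟩ := (mem_imgDeg (coneEval i U)).1 ha
    rw [θ_eval] at hx
    -- on each chart a power of `x_l / x_j` kills the value of `P`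
    have key : ∀ j, ∃ k : ℕ, co (piece_le_chart i U j) l ^ k * ev (piece_le_chart i U j) (piece_le_base i U j) P = 0 := by
      intro j
      haveI : IsAffine (piece i U j).toScheme := isAffineOpen_piece i hU j
      refine exists_pow_mul_eq_zero_of_res_basicOpen_eq_zero_of_isAffineOpen (piece i U j).toScheme
        (isAffineOpen_top _) _ _ ?_
      set V := (piece i U j).toScheme.basicOpen (co (piece_le_chart i U j) l)
      let W : X.Opens := piece i U j ⊓ piece i U l
      have hV : Set.range (V.ι ≫ (piece i U j).ι) ⊆ Set.range W.ι := by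
        rintro _ ⟨y, rfl⟩
        rw [Scheme.Opens.range_ι, Scheme.Hom.comp_apply]
        refine ⟨((V.ι y)).2, ?_, (piece_le_base i U j) (V.ι y).2⟩
        have : V.ι y ∈ (piece i U j).ι ⁻¹ᵁ chartOpen i l := (basicOpen_co _ _).le y.2
        exact this
      have e : V.ι = IsOpenImmersion.lift W.ι (V.ι ≫ (piece i U j).ι) hV ≫ X.homOfLE (inf_le_left : W ≤ piece i U j) := by
        rw [← cancel_mono (piece i U j).ι, Category.assoc, Scheme.homOfLE_ι, IsOpenImmersion.lift_fac]
      have h0 : (X.homOfLE (inf_le_left : W ≤ piece i U j)).appTop (ev (piece_le_chart i U j) (piece_le_base i U j) P) = 0 := by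
        have h' := congrArg (fun φ : _ →+* _ => φ P)
          (res_ev (piece_le_chart i U j) (piece_le_base i U j) (inf_le_left : W ≤ piece i U j))
        simp only [RingHom.comp_apply] at h'
        refine h'.trans ?_
        rw [ev_scale (i := i) ((inf_le_right : W ≤ piece i U l).trans (piece_le_chart i U l))
          ((inf_le_left : W ≤ piece i U j).trans (piece_le_chart i U j)) _ ((mem_homogeneousSubmodule _ _).1 hP),
          ← res_ev (piece_le_chart i U l) (piece_le_base i U l) (inf_le_right : W ≤ piece i U l), RingHom.comp_apply, hx,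
          map_zero, mul_zero]
      have h2 : V.ι.appTop (ev (piece_le_chart i U j) (piece_le_base i U j) P) = 0 := by
        rw [e, Scheme.Hom.comp_appTop, CommRingCat.comp_apply, h0, map_zero]
      have h3 := congrArg V.topIso.hom h2
      rw [map_zero, ← CommRingCat.comp_apply] at h3
      refine Eq.trans ?_ h3
      show ((piece i U j).toScheme.presheaf.map (homOfLE (le_top : V ≤ ⊤)).op).hom _ = _
      congr 2
      simp [Scheme.Opens.topIso, Scheme.Hom.appTop, Scheme.Opens.ι_app]
      rw [← Functor.map_comp]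
      exact congrArg _ (Subsingleton.elim _ _)
    choose k hk using key
    let K := Finset.univ.sup k
    have hz : (coneEval i U (MvPolynomial.X l)) ^ K * coneEval i U P = 0 := by
      rw [← map_pow, ← map_mul, coneEval_eq_zero_iff i hU]
      intro j d
      have hmem : MvPolynomial.X l ^ K * P ∈ CohB1.polyGrading N Γ(S, U) (K • 1 + n • 1) :=
        SetLike.mul_mem_graded (SetLike.pow_mem_graded K (ProjPt.X_mem l)) hP
      by_cases hd : d = K • 1 + n • 1
      · subst hd
        rw [DirectSum.decompose_of_mem_same _ hmem, map_mul, map_pow, ev, eval₂Hom_X']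
        obtain ⟨q, hq⟩ := Nat.exists_eq_add_of_le (Finset.le_sup (f := k) (Finset.mem_univ j))
        rw [show K = k j + q from hq, pow_add, mul_comm (_ ^ k j), mul_assoc]
        erw [hk j]
        rw [mul_zero]
      · rw [DirectSum.decompose_of_mem_ne _ hmem (Ne.symm hd), map_zero]
    apply HomogeneousLocalization.val_injective
    rw [Away.val_mk, val_zero, ← Localization.mk_zero 1, Localization.mk_eq_mk_iff, Localization.r_iff_exists]
    exact ⟨⟨T i U l ^ K, K, rfl⟩, by simpa using hz⟩
  · intro y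
    obtain ⟨P, rfl⟩ := surjective_ev i hU l y
    induction P using MvPolynomial.induction_on with
    | C r =>
      refine ⟨Away.mk ((grAlg i).deg U hU) (T_mem i U hU l) 0 (coneEval i U (MvPolynomial.C r))
        (by rw [zero_smul]; exact map_mem_imgDeg _ (isHomogeneous_C _ r)), ?_⟩
      rw [hmk, θ_eval]
    | add p q hp hq =>
      obtain ⟨x, hx⟩ := hp
      obtain ⟨x', hx'⟩ := hq
      exact ⟨x + x', by rw [map_add, map_add, hx, hx']⟩
    | mul_X p k hp =>
      obtain ⟨x, hx⟩ := hp
      refine ⟨x * Away.mk ((grAlg i).deg U hU) (T_mem i U hU l) 1 (T i U k) (by rw [one_smul]; exact T_mem i U hU k), ?_⟩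
      rw [map_mul, map_mul, hx, hmk, θ_T, ev, eval₂Hom_X']

theorem toProjPiece_isOpenImmersion (l : Fin (N + 1)) :
    IsOpenImmersion (toProjPiece i hU l (le_refl (piece i U l))) ∧
      Set.range (toProjPiece i hU l (le_refl (piece i U l))) =
        (Proj.basicOpen ((grAlg i).deg U hU) (T i U l) : Set (Proj ((grAlg i).deg U hU))) := by
  haveI : IsAffine (piece i U l).toScheme := isAffineOpen_piece i hU l
  let φ := CommRingCat.ofHom (ProjPt.coordHom ((grAlg i).deg U hU) (θ i hU l (le_refl (piece i U l)))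
    (isUnit_θ_T i hU l (le_refl _)))
  haveI : IsIso φ := (ConcreteCategory.isIso_iff_bijective φ).2 (bijective_coord i hU l)
  haveI : IsIso ((piece i U l).toScheme.toSpecΓ ≫ Spec.map φ) := inferInstance
  let a := Proj.awayι ((grAlg i).deg U hU) (T i U l) (T_mem i U hU l) one_pos
  have h : toProjPiece i hU l (le_refl (piece i U l)) = ((piece i U l).toScheme.toSpecΓ ≫ Spec.map φ) ≫ a :=
    (Category.assoc _ _ _).symm
  rw [h]
  refine ⟨inferInstance, ?_⟩
  rw [Scheme.Hom.comp_base, TopCat.coe_comp, Set.range_comp, Set.range_eq_univ.2 (Scheme.Hom.surjective _), Set.image_univ]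
  exact congrArg SetLike.coe (Proj.opensRange_awayι ((grAlg i).deg U hU) (T i U l) (T_mem i U hU l) one_pos)

/-- The charts over `U`. -/
def pieceCover (U : S.Opens) : (str i ⁻¹ᵁ U).toScheme.OpenCover :=
  Scheme.Cover.mkOfCovers (Fin (N + 1)) (fun j => (piece i U j).toScheme)
    (fun j => X.homOfLE (piece_le_base i U j)) (fun x => by
      obtain ⟨j, hj⟩ := exists_mem_chartOpen i x.1
      refine ⟨j, ⟨x.1, hj, x.2⟩, Subtype.ext ?_⟩
      simp)

theorem toProj_compat (j l : Fin (N + 1)) :
    pullback.fst (X.homOfLE (piece_le_base i U j)) (X.homOfLE (piece_le_base i U l)) ≫ toProjPiece i hU j (le_refl _) =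
      pullback.snd (X.homOfLE (piece_le_base i U j)) (X.homOfLE (piece_le_base i U l)) ≫ toProjPiece i hU l (le_refl _) := by
    let W : X.Opens := piece i U j ⊓ piece i U l
    let P := pullback (X.homOfLE (piece_le_base i U j)) (X.homOfLE (piece_le_base i U l))
    let p₁ : P ⟶ (piece i U j).toScheme := pullback.fst _ _
    let p₂ : P ⟶ (piece i U l).toScheme := pullback.snd _ _
    have hp : p₁ ≫ (piece i U j).ι = p₂ ≫ (piece i U l).ι := by
      rw [← Scheme.homOfLE_ι X (piece_le_base i U j), ← Scheme.homOfLE_ι X (piece_le_base i U l), ← Category.assoc,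
        ← Category.assoc, pullback.condition]
    let w : P ⟶ W.toScheme := IsOpenImmersion.lift W.ι (p₁ ≫ (piece i U j).ι) (by
      rintro _ ⟨y, rfl⟩
      rw [Scheme.Opens.range_ι]
      refine ⟨(p₁ y).2, ?_⟩
      rw [hp]
      exact (p₂ y).2)
    have hw1 : w ≫ X.homOfLE (inf_le_left : W ≤ piece i U j) = p₁ := by
      rw [← cancel_mono (piece i U j).ι, Category.assoc, Scheme.homOfLE_ι, IsOpenImmersion.lift_fac]
    have hw2 : w ≫ X.homOfLE (inf_le_right : W ≤ piece i U l) = p₂ := by
      rw [← cancel_mono (piece i U l).ι, Category.assoc, Scheme.homOfLE_ι, IsOpenImmersion.lift_fac, hp]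
    show p₁ ≫ _ = p₂ ≫ _
    rw [← hw1, ← hw2, Category.assoc, Category.assoc, homOfLE_toProjPiece, homOfLE_toProjPiece,
      toProjPiece_indep i hU j l]

/-- The preimage of `U` mapped to `Proj`. -/
def toProj : (str i ⁻¹ᵁ U).toScheme ⟶ Proj ((grAlg i).deg U hU) :=
  Scheme.Cover.glueMorphisms (pieceCover i U) (fun j : Fin (N + 1) => toProjPiece i hU j (le_refl (piece i U j)))
    (fun j l => toProj_compat i hU j l)

theorem homOfLE_toProj (j : Fin (N + 1)) :
    X.homOfLE (piece_le_base i U j) ≫ toProj i hU = toProjPiece i hU j (le_refl _) := by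
  rw [toProj]
  exact Scheme.Cover.ι_glueMorphisms (pieceCover i U) _ _ j

theorem isIso_toProj : IsIso (toProj i hU) := by
  have hpre : ∀ (x : (str i ⁻¹ᵁ U).toScheme) (l : Fin (N + 1)),
      toProj i hU x ∈ Proj.basicOpen ((grAlg i).deg U hU) (T i U l) ↔ x.1 ∈ chartOpen i l := by
    intro x l
    obtain ⟨j, z, rfl⟩ := (pieceCover i U).exists_eq x
    have h := congrArg (fun φ : (piece i U j).toScheme ⟶ _ => φ ⁻¹ᵁ Proj.basicOpen ((grAlg i).deg U hU) (T i U l)) (homOfLE_toProj i hU j)
    simp only [toProjPiece_preimage] at h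
    have hz : ((X.homOfLE (piece_le_base i U j)) z).1 = z.1 := by simp
    show toProj i hU ((X.homOfLE (piece_le_base i U j)) z) ∈ _ ↔ _ ∈ chartOpen i l
    rw [← Scheme.Hom.comp_apply]
    refine Iff.trans ?_ (Iff.of_eq (congrArg (· ∈ chartOpen i l) hz.symm))
    exact ⟨fun hh => (le_of_eq h) hh, fun hh => (ge_of_eq h) hh⟩
  haveI hopen : IsOpenImmersion (toProj i hU) := by
    refine IsOpenImmersion.of_openCover_source _ (pieceCover i U) ?_ (fun j => ?_)
    · intro x y hxy
      obtain ⟨j, hj⟩ := exists_mem_chartOpen i x.1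
      have hy : y.1 ∈ chartOpen i j := (hpre y j).1 (hxy ▸ (hpre x j).2 hj)
      let x' : (piece i U j).toScheme := ⟨x.1, hj, x.2⟩
      let y' : (piece i U j).toScheme := ⟨y.1, hy, y.2⟩
      haveI := (toProjPiece_isOpenImmersion i hU j).1
      have hx' : X.homOfLE (piece_le_base i U j) x' = x := Subtype.ext (by simp [x'])
      have hy' : X.homOfLE (piece_le_base i U j) y' = y := Subtype.ext (by simp [y'])
      have : x' = y' := (toProjPiece i hU j (le_refl _)).isOpenEmbedding.injective (by
        rw [← homOfLE_toProj, Scheme.Hom.comp_apply, Scheme.Hom.comp_apply, hx', hy', hxy])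
      rw [← hx', ← hy', this]
    · show IsOpenImmersion (X.homOfLE (piece_le_base i U j) ≫ toProj i hU)
      rw [homOfLE_toProj]
      exact (toProjPiece_isOpenImmersion i hU j).1
  have hcov : ⨆ l, Proj.basicOpen ((grAlg i).deg U hU) (T i U l) = ⊤ := by
    refine Proj.iSup_basicOpen_eq_top _ _ ?_
    let J : HomogeneousIdeal ((grAlg i).deg U hU) := ⟨Ideal.span (Set.range (T i U)),
      Ideal.homogeneous_span ((grAlg i).deg U hU) _ (by rintro _ ⟨k, rfl⟩; exact ⟨1, T_mem i U hU k⟩)⟩
    refine (show ((grAlg i).deg U hU)₊ ≤ J from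
      (HomogeneousIdeal.irrelevant_le _).2 fun d hd b hb => ?_)
    obtain ⟨P, hP, rfl⟩ := (mem_imgDeg (coneEval i U)).1 hb
    have h1 : P ∈ Ideal.span (Set.range (MvPolynomial.X (R := Γ(S, U)))) :=
      SegreX.irrelevant_le_span N Γ(S, U) (HomogeneousIdeal.mem_irrelevant_of_mem _ hd hP)
    have h2 := Ideal.mem_map_of_mem (coneEval i U) h1
    rwa [Ideal.map_span, ← Set.range_comp] at h2
  haveI : Epi (toProj i hU).base := (TopCat.epi_iff_surjective _).2 fun y => by
    obtain ⟨l, hl⟩ := Opens.mem_iSup.1 (hcov.ge (Opens.mem_top y))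
    obtain ⟨z, hz⟩ := (toProjPiece_isOpenImmersion i hU l).2.ge hl
    exact ⟨X.homOfLE (piece_le_base i U l) z, by rw [← Scheme.Hom.comp_apply, homOfLE_toProj, hz]⟩
  exact IsOpenImmersion.isIso (toProj i hU)

/-- The chart of the relative `Proj`. -/
def projChart (U : S.Opens) (hU : IsAffineOpen U) :
    (str i ⁻¹ᵁ U).toScheme ≅ Proj ((grAlg i).deg U hU) :=
  haveI := isIso_toProj i hU
  asIso (toProj i hU)

theorem isRelProj : RelProj.IsRelProj (grAlg i) (str i) (projChart i) where
  chart_over U hU := by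
    refine Scheme.Cover.hom_ext (pieceCover i U) _ _ fun j => ?_
    show X.homOfLE (piece_le_base i U j) ≫ toProj i hU ≫ _ = X.homOfLE (piece_le_base i U j) ≫ _
    rw [reassoc_of% homOfLE_toProj i hU j, toProjPiece, reassoc_of% (ProjPt.pt_toSpecZero _ _ _ _ _),
      ← Spec.map_comp_assoc, Scheme.homOfLE_ι_assoc]
    have key := PnCoh.Chow.eq_toSpecΓ_fromSpec hU ((piece i U j).ι ≫ str i) ⊤ (fun z _ => piece_le_base i U j z.2)
    haveI : IsIso (⊤ : (piece i U j).toScheme.Opens).ι := ((piece i U j).toScheme.topIso).isIso_hom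
    rw [← cancel_epi (⊤ : (piece i U j).toScheme.Opens).ι, key, Scheme.toSpecΓ_naturality_assoc,
      Scheme.Opens.toSpecΓ, Category.assoc, ← Spec.map_comp_assoc, ← Spec.map_comp_assoc]
    congr 3
    simp only [Category.assoc]
    ext r
    show ((⊤ : (piece i U j).toScheme.Opens).ι.appTop).hom (θ i hU j le_rfl (((grAlg i).str.app (op U)).hom r)) = _
    have hs : ((grAlg i).str.app (op U)).hom r = coneEval i U (MvPolynomial.C r) := (eval₂Hom_C _ _ _).symm
    rw [hs, θ_eval, ev, eval₂Hom_C, base]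
    simp [Scheme.Opens.topIso, Scheme.Hom.appTop, Scheme.Opens.ι_app]
    simp only [← CommRingCat.comp_apply, ← Functor.map_comp]
    rfl
  chart_res U hU r := by
    refine Scheme.Cover.hom_ext (pieceCover i (S.basicOpen r)) _ _ fun j => ?_
    show X.homOfLE (piece_le_base i (S.basicOpen r) j) ≫ X.homOfLE _ ≫ toProj i hU =
      X.homOfLE (piece_le_base i (S.basicOpen r) j) ≫ toProj i (hU.basicOpen r) ≫ _
    rw [reassoc_of% homOfLE_toProj i (hU.basicOpen r) j, Scheme.homOfLE_homOfLE_assoc,
      ← Scheme.homOfLE_homOfLE_assoc X (piece_mono i (S.basicOpen_le r) j) (piece_le_base i U j),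
      homOfLE_toProj, homOfLE_toProjPiece]
    symm
    have hg : (grAlg i).res hU (hU.basicOpen r) (S.basicOpen_le r) (T i U j) = T i (S.basicOpen r) j := by
      refine (congrArg (fun φ : _ →+* _ => φ (MvPolynomial.X j)) (res_coneEval i (S.basicOpen_le r))).trans ?_
      exact congrArg (coneEval i (S.basicOpen r)) (MvPolynomial.map_X _ _)
    have hu : IsUnit (θ i (hU.basicOpen r) j (le_refl (piece i (S.basicOpen r) j))
        ((grAlg i).res hU (hU.basicOpen r) (S.basicOpen_le r) (T i U j))) := by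
      rw [hg]; exact isUnit_θ_T i _ j _
    rw [toProjPiece, toProjPiece, ProjPt.pt_indep _ _ (T_mem i _ (hU.basicOpen r) j) one_pos
      (isUnit_θ_T i _ j _) (((grAlg i).res hU (hU.basicOpen r) (S.basicOpen_le r)).2 (T_mem i U hU j)) one_pos hu]
    exact pt_map _ _ _ (T_mem i U hU j) one_pos hu _
      (fun a => θ_res i hU (hU.basicOpen r) (S.basicOpen_le r) j (le_refl _) a) _

theorem isProjective_str : RelProj.IsProjective (str i) :=
  ⟨grAlg i, X, str i, projChart i, Iso.refl X, isGenDegOne_grAlg i, isFTDeg_grAlg i, isRelProj i, Category.id_comp _⟩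

theorem isProjective_of_isHProjective {f : X ⟶ S} (hf : RelProj.IsHProjective f) : RelProj.IsProjective f := by
  obtain ⟨n, i, hi, rfl⟩ := hf
  exact isProjective_str i

end Groth.Agent.HProj
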