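import Groth.Agent.SegreX.Basic
import Groth.Agent.TwistFlat.Base
import Groth.Agent.PnCoh.Chow.Basic

/-!
# Coordinates on a closed subscheme of projective space over a base
-/

universe u

open CategoryTheory CategoryTheory.Limits AlgebraicGeometry TopologicalSpace MvPolynomial HomogeneousLocalization

set_option backward.isDefEq.respectTransparency false
set_option backward.isDefEq.respectTransparency.types false
set_option linter.style.haveILetI false

noncomputable section

namespace Groth.Agent.HProj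

open Groth.Agent

variable {S X : Scheme.{u}} {N : ℕ} (i : X ⟶ CohB1.ProjSpaceOver N S)

/-- The projection to `P^N_ℤ`. -/
def toPZ : X ⟶ SegreX.PZ.{u} N := i ≫ pullback.fst _ _

/-- The structure map. -/
def str : X ⟶ S := i ≫ CohB1.ProjSpaceOver.toBase N S

/-- The standard charts. -/
def chartOpen (j : Fin (N + 1)) : X.Opens :=
  toPZ i ⁻¹ᵁ Proj.basicOpen (CohB1.polyGrading N (ULift.{u} ℤ)) (MvPolynomial.X j)

theorem exists_mem_chartOpen (x : X) : ∃ j, x ∈ chartOpen i j := by
  obtain ⟨j, hj⟩ := SegreX.exists_mem_chart (toPZ i x)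
  exact ⟨j, show toPZ i x ∈ Proj.basicOpen _ _ from (SegreX.range_chart N j).le hj⟩

variable {i}

/-- The lift to a chart. -/
def chartMap {j : Fin (N + 1)} {W : X.Opens} (h : W ≤ chartOpen i j) :
    W.toScheme ⟶ Spec (SegreX.chartRing.{u} N j) :=
  IsOpenImmersion.lift (SegreX.chart N j) (W.ι ≫ toPZ i) (by
    rintro _ ⟨y, rfl⟩
    rw [SegreX.range_chart]
    rw [Scheme.Hom.comp_apply]
    exact h y.2)

theorem chartMap_fac {j : Fin (N + 1)} {W : X.Opens} (h : W ≤ chartOpen i j) :
    chartMap h ≫ SegreX.chart N j = W.ι ≫ toPZ i :=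
  IsOpenImmersion.lift_fac _ _ _

theorem homOfLE_chartMap {j : Fin (N + 1)} {W W' : X.Opens} (h : W ≤ chartOpen i j) (e : W' ≤ W) :
    X.homOfLE e ≫ chartMap h = chartMap (e.trans h) := by
  rw [← cancel_mono (SegreX.chart N j), Category.assoc, chartMap_fac, chartMap_fac, Scheme.homOfLE_ι_assoc]

/-- The coordinates `x_k / x_j` on an open of the `j`-th chart. -/
def co {j : Fin (N + 1)} {W : X.Opens} (h : W ≤ chartOpen i j) (k : Fin (N + 1)) : Γ(W.toScheme, ⊤) :=
  SegreX.coords (chartMap h) k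

theorem co_self {j : Fin (N + 1)} {W : X.Opens} (h : W ≤ chartOpen i j) : co h j = 1 :=
  SegreX.coords_self _

theorem res_co {j : Fin (N + 1)} {W W' : X.Opens} (h : W ≤ chartOpen i j) (e : W' ≤ W) (k : Fin (N + 1)) :
    (X.homOfLE e).appTop (co h k) = co (e.trans h) k := by
  rw [co, co, ← homOfLE_chartMap h e, SegreX.coords_comp]

/-- Coordinates in two charts are proportional. -/
theorem co_mul {j l : Fin (N + 1)} {W : X.Opens} (hj : W ≤ chartOpen i j) (hl : W ≤ chartOpen i l)
    (k : Fin (N + 1)) : co hl k = co hl j * co hj k := by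
  obtain ⟨c, -, hk⟩ := SegreX.exists_unit_coords (chartMap hj) (chartMap hl)
    ((chartMap_fac hj).trans (chartMap_fac hl).symm)
  have hc : co hl j = c := by
    rw [co, hk j, SegreX.coords_self, mul_one]
  rw [hc]
  exact hk k

theorem basicOpen_co {j : Fin (N + 1)} {W : X.Opens} (h : W ≤ chartOpen i j) (k : Fin (N + 1)) :
    W.toScheme.basicOpen (co h k) = W.ι ⁻¹ᵁ chartOpen i k := by
  rw [co, ← SegreX.coords_basicOpen]
  exact congrArg (fun φ : W.toScheme ⟶ _ => φ ⁻¹ᵁ Proj.basicOpen (CohB1.polyGrading N (ULift.{u} ℤ)) (MvPolynomial.X k)) (chartMap_fac h)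

/-- The constants on an open over `U`. -/
def base {U : S.Opens} {W : X.Opens} (hW : W ≤ str i ⁻¹ᵁ U) : Γ(S, U) →+* Γ(W.toScheme, ⊤) :=
  ((W.ι ≫ str i).appLE U ⊤ (fun _ _ => hW (Subtype.prop _))).hom

theorem res_base {U : S.Opens} {W W' : X.Opens} (hW : W ≤ str i ⁻¹ᵁ U) (e : W' ≤ W) :
    (X.homOfLE e).appTop.hom.comp (base hW) = base (e.trans hW) := by
  rw [base, base, ← CommRingCat.hom_comp, Scheme.Hom.appTop, Scheme.Hom.app_eq_appLE,
    Scheme.Hom.appLE_comp_appLE]
  congr 1
  exact PnCoh.Chow.appLE_congr_hom (Scheme.homOfLE_ι_assoc X e (str i)) U ⊤ _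

theorem base_res {U V : S.Opens} {W : X.Opens} (e : V ≤ U) (hW : W ≤ str i ⁻¹ᵁ V) :
    (base hW).comp (S.presheaf.map (homOfLE e).op).hom = base (i := i) (hW.trans ((str i).preimage_mono e)) := by
  rw [base, base, ← CommRingCat.hom_comp, Scheme.Hom.map_appLE]

/-- Evaluation of a polynomial at the coordinates. -/
def ev {U : S.Opens} {j : Fin (N + 1)} {W : X.Opens} (hj : W ≤ chartOpen i j) (hW : W ≤ str i ⁻¹ᵁ U) :
    MvPolynomial (Fin (N + 1)) Γ(S, U) →+* Γ(W.toScheme, ⊤) :=
  eval₂Hom (base hW) (co hj)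

theorem res_ev {U : S.Opens} {j : Fin (N + 1)} {W W' : X.Opens} (hj : W ≤ chartOpen i j)
    (hW : W ≤ str i ⁻¹ᵁ U) (e : W' ≤ W) :
    (X.homOfLE e).appTop.hom.comp (ev hj hW) = ev (e.trans hj) (e.trans hW) := by
  rw [ev, comp_eval₂Hom, res_base]
  exact congrArg (eval₂Hom _) (funext fun k => res_co hj e k)

theorem ev_res {U V : S.Opens} {j : Fin (N + 1)} {W : X.Opens} (e : V ≤ U) (hj : W ≤ chartOpen i j)
    (hW : W ≤ str i ⁻¹ᵁ V) :
    (ev hj hW).comp (MvPolynomial.map (S.presheaf.map (homOfLE e).op).hom) =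
      ev hj (hW.trans ((str i).preimage_mono e)) := by
  refine MvPolynomial.ringHom_ext (fun a => ?_) fun k => ?_
  · rw [RingHom.comp_apply, MvPolynomial.map_C, ev, ev, eval₂Hom_C, eval₂Hom_C, ← base_res e hW]
    rfl
  · rw [RingHom.comp_apply, MvPolynomial.map_X, ev, ev, eval₂Hom_X', eval₂Hom_X']

theorem ev_scale {U : S.Opens} {j l : Fin (N + 1)} {W : X.Opens} (hj : W ≤ chartOpen i j)
    (hl : W ≤ chartOpen i l) (hW : W ≤ str i ⁻¹ᵁ U) {d : ℕ} {a : MvPolynomial (Fin (N + 1)) Γ(S, U)}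
    (ha : a.IsHomogeneous d) : ev hl hW a = co hl j ^ d * ev hj hW a :=
  ProjPt.eval₂Hom_scale (base hW) (co hj) (co hl) _ (co_mul hj hl) ha

variable (i)

/-- The `j`-th chart over `U`. -/
def piece (U : S.Opens) (j : Fin (N + 1)) : X.Opens := chartOpen i j ⊓ str i ⁻¹ᵁ U

theorem piece_le_chart (U : S.Opens) (j : Fin (N + 1)) : piece i U j ≤ chartOpen i j := inf_le_left

theorem piece_le_base (U : S.Opens) (j : Fin (N + 1)) : piece i U j ≤ str i ⁻¹ᵁ U := inf_le_right

theorem piece_mono {U V : S.Opens} (e : V ≤ U) (j : Fin (N + 1)) : piece i V j ≤ piece i U j :=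
  inf_le_inf le_rfl ((str i).preimage_mono e)

/-- The closed immersion of a chart over `U` into the product of the chart of `P^N_ℤ` and `U`. -/
def pieceEmb (U : S.Opens) (j : Fin (N + 1)) : (piece i U j).toScheme ⟶
    pullback (SegreX.chart.{u} N j ≫ CohB1.ProjSpace.toSpec N (ULift.{u} ℤ)) (specULiftZIsTerminal.from U.toScheme) :=
  pullback.lift (chartMap (piece_le_chart i U j)) (IsOpenImmersion.lift U.ι ((piece i U j).ι ≫ str i) (by
    rintro _ ⟨y, rfl⟩
    rw [Scheme.Opens.range_ι]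
    exact (piece_le_base i U j) y.2)) (specULiftZIsTerminal.hom_ext _ _)

variable [IsClosedImmersion i]

theorem isClosedImmersion_pieceEmb (U : S.Opens) (j : Fin (N + 1)) : IsClosedImmersion (pieceEmb i U j) := by
  let c := SegreX.chart.{u} N j ≫ CohB1.ProjSpace.toSpec N (ULift.{u} ℤ)
  let m : pullback c (specULiftZIsTerminal.from U.toScheme) ⟶ CohB1.ProjSpaceOver N S :=
    pullback.map c _ (CohB1.ProjSpace.toSpec N (ULift.{u} ℤ)) (specULiftZIsTerminal.from S)
      (SegreX.chart N j) U.ι (𝟙 _) (by simp [c]) (specULiftZIsTerminal.hom_ext _ _)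
  haveI : IsOpenImmersion m := inferInstanceAs (IsOpenImmersion (pullback.map _ _ _ _ _ _ _ _ _))
  have hfac : pieceEmb i U j ≫ m = (piece i U j).ι ≫ i := by
    refine pullback.hom_ext ?_ ?_
    · rw [Category.assoc, Category.assoc, pullback.lift_fst]
      erw [pullback.lift_fst_assoc]
      exact chartMap_fac _
    · rw [Category.assoc, Category.assoc, pullback.lift_snd]
      erw [pullback.lift_snd_assoc]
      exact IsOpenImmersion.lift_fac _ _ _
  refine MorphismProperty.of_isPullback (IsOpenImmersion.isPullback (pieceEmb i U j) (piece i U j).ι m i hfac.symm ?_).flip ‹IsClosedImmersion i›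
  rw [Scheme.Opens.opensRange_ι]
  ext x
  show i x ∈ Set.range m ↔ x ∈ piece i U j
  erw [Scheme.Pullback.range_map]
  show i x ∈ _ ∩ _ ↔ _
  rw [Set.mem_inter_iff, Set.mem_preimage, Set.mem_preimage, SegreX.range_chart, Scheme.Opens.range_ι]
  exact Iff.rfl

end Groth.Agent.HProj

namespace Groth.Agent.HProj

/-- The ring of functions on a product of affine schemes is generated by those of the factors. -/
theorem pullback_subring_eq_top {R : CommRingCat.{u}} {Y Z : Scheme.{u}} [IsAffine Y] (a : Spec R ⟶ Z) (b : Y ⟶ Z)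
    [IsAffine (pullback a b)] (Q : Subring Γ(pullback a b, ⊤))
    (ha : ∀ r, (pullback.fst a b).appTop ((Scheme.ΓSpecIso R).inv r) ∈ Q)
    (hb : ∀ y, (pullback.snd a b).appTop y ∈ Q) (hm : ∀ {W : Scheme.{u}} (p q : W ⟶ Z), p = q) : Q = ⊤ := by
  let T := pullback a b
  let q : CommRingCat.of Q ⟶ Γ(T, ⊤) := CommRingCat.ofHom Q.subtype
  let t : T ⟶ Spec (CommRingCat.of Q) := T.toSpecΓ ≫ Spec.map q
  let α : R ⟶ CommRingCat.of Q :=
    CommRingCat.ofHom ((((Scheme.ΓSpecIso R).inv ≫ (pullback.fst a b).appTop).hom).codRestrict Q ha)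
  let β : Γ(Y, ⊤) ⟶ CommRingCat.of Q := CommRingCat.ofHom ((pullback.snd a b).appTop.hom.codRestrict Q hb)
  let l : Spec (CommRingCat.of Q) ⟶ T := pullback.lift (Spec.map α) (Spec.map β ≫ Y.isoSpec.inv)
    (hm _ _)
  have hα : α ≫ q = (Scheme.ΓSpecIso R).inv ≫ (pullback.fst a b).appTop := rfl
  have hβ : β ≫ q = (pullback.snd a b).appTop := rfl
  have h : t ≫ l = 𝟙 T := by
    refine pullback.hom_ext ?_ ?_
    · rw [Category.assoc, pullback.lift_fst, Category.id_comp, Category.assoc, ← Spec.map_comp, hα, Spec.map_comp,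
        ← Scheme.toSpecΓ_naturality_assoc, toSpecΓ_SpecMap_ΓSpecIso_inv, Category.comp_id]
    · rw [Category.assoc, pullback.lift_snd, Category.id_comp, Category.assoc, ← Spec.map_comp_assoc, hβ,
        ← Scheme.toSpecΓ_naturality_assoc]
      simp [Scheme.isoSpec]
  rw [eq_top_iff]
  intro x _
  have h1 : (t ≫ l).appTop x = x := by rw [h]; rfl
  rw [← h1, Scheme.Hom.comp_appTop, CommRingCat.comp_apply]
  have h2 : t.appTop = (Scheme.ΓSpecIso (CommRingCat.of Q)).hom ≫ q := by
    simp [t, Scheme.Hom.comp_appTop, Scheme.toSpecΓ_appTop, Scheme.ΓSpecIso_naturality]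
  rw [h2, CommRingCat.comp_apply]
  exact Subtype.prop _

variable {S X : Scheme.{u}} {N : ℕ} (i : X ⟶ CohB1.ProjSpaceOver N S) [IsClosedImmersion i]

/-- A chart over an affine open is affine. -/
theorem isAffineOpen_piece {U : S.Opens} (hU : IsAffineOpen U) (j : Fin (N + 1)) : IsAffineOpen (piece i U j) := by
  haveI : IsAffine U.toScheme := hU
  haveI := isClosedImmersion_pieceEmb i U j
  exact isAffine_of_isAffineHom (pieceEmb i U j)

/-- The coordinates generate the functions on a chart over an affine open. -/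
theorem surjective_ev {U : S.Opens} (hU : IsAffineOpen U) (j : Fin (N + 1)) :
    Function.Surjective (ev (piece_le_chart i U j) (piece_le_base i U j)) := by
  haveI : IsAffine U.toScheme := hU
  haveI := isClosedImmersion_pieceEmb i U j
  let e := ev (piece_le_chart i U j) (piece_le_base i U j)
  let Q : Subring Γ(pullback (SegreX.chart.{u} N j ≫ CohB1.ProjSpace.toSpec N (ULift.{u} ℤ))
      (specULiftZIsTerminal.from U.toScheme), ⊤) := e.range.comap (pieceEmb i U j).appTop.hom
  have hQ : Q = ⊤ := by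
    refine pullback_subring_eq_top _ _ Q (fun r => ?_) (fun y => ?_) ?_
    · show (pieceEmb i U j).appTop _ ∈ e.range
      rw [← CommRingCat.comp_apply _ (pieceEmb i U j).appTop, ← Scheme.Hom.comp_appTop, pieceEmb, pullback.lift_fst]
      let θ := ((Scheme.ΓSpecIso (SegreX.chartRing.{u} N j)).inv ≫ (chartMap (piece_le_chart i U j)).appTop).hom
      show θ r ∈ e.range
      obtain ⟨n, a, ha, rfl⟩ := Away.mk_surjective (CohB1.polyGrading N (ULift.{u} ℤ)) (ProjPt.X_mem j) r
      rw [ProjPt.mk_eq_eval, coe_eval₂Hom, MvPolynomial.eval₂_eq, map_sum]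
      refine sum_mem fun d _ => ?_
      rw [map_mul, map_prod]
      refine mul_mem ?_ (prod_mem fun k _ => ?_)
      · have : θ.comp (ProjPt.cst j) = e.comp (SegreX.z0 _) :=
          (SegreX.z0_eq _).trans (SegreX.z0_eq _).symm
        exact ⟨_, (congrArg (fun φ : _ →+* _ => φ (a.coeff d)) this).symm⟩
      · rw [map_pow]
        refine pow_mem ?_ _
        exact ⟨MvPolynomial.X k, eval₂Hom_X' _ _ _⟩
    · show (pieceEmb i U j).appTop _ ∈ e.range
      rw [← CommRingCat.comp_apply _ (pieceEmb i U j).appTop, ← Scheme.Hom.comp_appTop, pieceEmb, pullback.lift_snd]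
      refine ⟨MvPolynomial.C (U.topIso.hom y), (eval₂Hom_C _ _ _).trans ?_⟩
      show ((piece i U j).ι ≫ str i).appLE U ⊤ _ (U.topIso.hom y) = _
      rw [← CommRingCat.comp_apply]
      refine congrArg (fun φ : Γ(U.toScheme, ⊤) ⟶ Γ((piece i U j).toScheme, ⊤) => φ.hom y) ?_
      set g := IsOpenImmersion.lift U.ι ((piece i U j).ι ≫ str i) _
      have hg : g ≫ U.ι = (piece i U j).ι ≫ str i := IsOpenImmersion.lift_fac _ _ _
      have h1 : U.ι.appLE U ⊤ (fun z _ => z.2) = U.topIso.inv := by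
        simp [Scheme.Opens.topIso]
        exact congrArg _ (Subsingleton.elim _ _)
      rw [← cancel_epi U.topIso.inv]
      erw [Iso.inv_hom_id_assoc]
      refine (PnCoh.Chow.appLE_congr_hom hg.symm U ⊤ _).trans ?_
      rw [← Scheme.Hom.appLE_comp_appLE g U.ι U ⊤ ⊤ (fun z _ => z.2) le_top, h1]
      exact congrArg (fun φ => U.topIso.inv ≫ φ) (Scheme.Hom.appLE_eq_app g (U := ⊤))
    · exact fun p q => specULiftZIsTerminal.hom_ext p q
  intro x
  obtain ⟨y, rfl⟩ := ((IsClosedImmersion.isAffine_surjective_of_isAffine (pieceEmb i U j)).2) x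
  exact (hQ.ge (Subring.mem_top y) : y ∈ Q)

end Groth.Agent.HProj
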