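import Groth.Agent.HProj.Cone
import Groth.Prelude.Def_RelProj

/-!
# The graded algebra of a closed subscheme of projective space
-/

universe u

open CategoryTheory CategoryTheory.Limits AlgebraicGeometry TopologicalSpace Opposite MvPolynomial

set_option backward.isDefEq.respectTransparency false
set_option backward.isDefEq.respectTransparency.types false
set_option linter.style.haveILetI false

noncomputable section

namespace Groth.Agent.HProj

open Groth.Agent

variable {S X : Scheme.{u}} {N : ℕ} (i : X ⟶ CohB1.ProjSpaceOver N S) [IsClosedImmersion i]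

/-- The functions on the cone as a quasi-coherent algebra. -/
abbrev coneAlg : RelSpec.QCAlg S := RelSpec.QCAlg.directImage (coneπ i)

theorem res_coneEval {U V : S.Opens} (e : V ≤ U) :
    ((cone i).presheaf.map (homOfLE ((coneπ i).preimage_mono e)).op).hom.comp (coneEval i U) =
      (coneEval i V).comp (MvPolynomial.map (S.presheaf.map (homOfLE e).op).hom) := by
  refine MvPolynomial.ringHom_ext (fun a => ?_) fun k => ?_
  · rw [RingHom.comp_apply, RingHom.comp_apply, MvPolynomial.map_C, coneEval, coneEval, eval₂Hom_C, eval₂Hom_C]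
    exact (congr($(Scheme.Hom.naturality (coneπ i) (homOfLE e).op).hom a)).symm
  · rw [RingHom.comp_apply, RingHom.comp_apply, MvPolynomial.map_X, coneEval, coneEval, eval₂Hom_X', eval₂Hom_X',
      coneCoord, coneCoord]
    rw [← CommRingCat.comp_apply, Scheme.Hom.appLE_map]

theorem coneEval_component {U : S.Opens} (hU : IsAffineOpen U) (P : MvPolynomial (Fin (N + 1)) Γ(S, U))
    (h : coneEval i U P = 0) (d : ℕ) :
    coneEval i U (DirectSum.decompose (CohB1.polyGrading N Γ(S, U)) P d : MvPolynomial (Fin (N + 1)) Γ(S, U)) = 0 := by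
  rw [coneEval_eq_zero_iff i hU] at h ⊢
  intro j d'
  by_cases hd : d' = d
  · subst hd
    rw [DirectSum.decompose_of_mem_same _ (SetLike.coe_mem _)]
    exact h j d'
  · rw [DirectSum.decompose_of_mem_ne _ (SetLike.coe_mem _) (Ne.symm hd), map_zero]

/-- The graded algebra of the closed subscheme. -/
def grAlg : RelProj.QCGrAlg S where
  toQCAlg := coneAlg i
  deg U _ d := imgDeg (coneEval i U) d
  graded U hU := imgGradedRing (coneEval i U) (surjective_coneEval i hU) (coneEval_component i hU)
  map_mem := fun {U V} hU hV e {d x} hx => by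
    obtain ⟨P, hP, rfl⟩ := (mem_imgDeg _).1 hx
    refine ⟨MvPolynomial.map (S.presheaf.map (homOfLE e).op).hom P, ?_, ?_⟩
    · exact MvPolynomial.IsHomogeneous.map ((mem_homogeneousSubmodule _ _).1 hP) _
    · exact (congrArg (fun φ : _ →+* _ => φ P) (res_coneEval i e)).symm
  str_mem U _ r := ⟨MvPolynomial.C r, isHomogeneous_C _ r, eval₂Hom_C _ _ _⟩

theorem isGenDegOne_grAlg : (grAlg i).IsGenDegOne := fun U hU =>
  closure_imgDeg (coneEval i U) (surjective_coneEval i hU)

theorem isFTDeg_grAlg : (grAlg i).IsFTDeg 1 := by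
  classical
  intro U hU
  refine ⟨Finset.univ.image fun k => coneEval i U (MvPolynomial.X k), ?_, fun x hx => ?_⟩
  · intro x hx
    obtain ⟨k, -, rfl⟩ := Finset.mem_image.1 (Finset.mem_coe.1 hx)
    exact map_mem_imgDeg _ (ProjPt.X_mem k)
  · obtain ⟨P, hP, rfl⟩ := (mem_imgDeg (coneEval i U)).1 hx
    rw [CohB1.polyGrading, MvPolynomial.homogeneousSubmodule_one_eq_span_X] at hP
    obtain ⟨c, rfl⟩ := (Submodule.mem_span_range_iff_exists_fun _).1 hP
    refine ⟨fun t => ∑ k ∈ Finset.univ.filter (fun k => coneEval i U (MvPolynomial.X k) = t), c k, ?_⟩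
    rw [map_sum]
    refine (Finset.sum_fiberwise_of_maps_to (g := fun k => coneEval i U (MvPolynomial.X k))
      (t := Finset.univ.image fun k => coneEval i U (MvPolynomial.X k))
      (fun k _ => Finset.mem_image_of_mem _ (Finset.mem_univ k)) _).symm.trans ?_
    refine Finset.sum_congr rfl fun t _ => ?_
    rw [map_sum, Finset.sum_mul]
    refine Finset.sum_congr rfl fun k hk => ?_
    rw [← (Finset.mem_filter.1 hk).2, MvPolynomial.smul_eq_C_mul, map_mul]
    exact congrArg (· * coneEval i U (MvPolynomial.X k)) (eval₂Hom_C _ _ _)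

/-- The coordinates in the graded algebra. -/
abbrev T (U : S.Opens) (k : Fin (N + 1)) : (grAlg i).presheaf.obj (op U) := coneEval i U (MvPolynomial.X k)

theorem T_mem (U : S.Opens) (hU : IsAffineOpen U) (k : Fin (N + 1)) : T i U k ∈ (grAlg i).deg U hU 1 :=
  map_mem_imgDeg _ (ProjPt.X_mem k)

/-- Restriction of a function on the cone to a chart, in the coordinates of that chart. -/
def θ {U : S.Opens} (hU : IsAffineOpen U) (j : Fin (N + 1)) {W : X.Opens} (hW : W ≤ piece i U j) :
    (grAlg i).presheaf.obj (op U) →+* Γ(W.toScheme, ⊤) :=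
  RingHom.liftOfSurjective (coneEval i U) (surjective_coneEval i hU)
    ⟨ev (hW.trans (piece_le_chart i U j)) (hW.trans (piece_le_base i U j)), fun P hP => by
      classical
      rw [RingHom.mem_ker] at hP ⊢
      rw [coneEval_eq_zero_iff i hU] at hP
      rw [← res_ev (piece_le_chart i U j) (piece_le_base i U j) hW, RingHom.comp_apply]
      conv_lhs => rw [← DirectSum.sum_support_decompose (CohB1.polyGrading N Γ(S, U)) P]
      rw [map_sum, Finset.sum_eq_zero fun d _ => hP j d, map_zero]⟩

theorem θ_eval {U : S.Opens} (hU : IsAffineOpen U) (j : Fin (N + 1)) {W : X.Opens} (hW : W ≤ piece i U j)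
    (P : MvPolynomial (Fin (N + 1)) Γ(S, U)) :
    θ i hU j hW (coneEval i U P) = ev (hW.trans (piece_le_chart i U j)) (hW.trans (piece_le_base i U j)) P :=
  RingHom.liftOfSurjective_comp_apply _ _ _ _

theorem θ_T {U : S.Opens} (hU : IsAffineOpen U) (j : Fin (N + 1)) {W : X.Opens} (hW : W ≤ piece i U j)
    (k : Fin (N + 1)) : θ i hU j hW (T i U k) = co (hW.trans (piece_le_chart i U j)) k :=
  (θ_eval i hU j hW _).trans (eval₂Hom_X' _ _ _)

theorem isUnit_θ_T {U : S.Opens} (hU : IsAffineOpen U) (j : Fin (N + 1)) {W : X.Opens} (hW : W ≤ piece i U j) :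
    IsUnit (θ i hU j hW (T i U j)) := by
  rw [θ_T, co_self]; exact isUnit_one

theorem res_θ {U : S.Opens} (hU : IsAffineOpen U) (j : Fin (N + 1)) {W W' : X.Opens} (hW : W ≤ piece i U j)
    (e : W' ≤ W) : (X.homOfLE e).appTop.hom.comp (θ i hU j hW) = θ i hU j (e.trans hW) := by
  refine RingHom.ext fun x => ?_
  obtain ⟨P, rfl⟩ := surjective_coneEval i hU x
  rw [RingHom.comp_apply, θ_eval, θ_eval, ← res_ev _ _ e, RingHom.comp_apply]

theorem θ_res {U V : S.Opens} (hU : IsAffineOpen U) (hV : IsAffineOpen V) (e : V ≤ U) (j : Fin (N + 1))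
    {W : X.Opens} (hW : W ≤ piece i V j) (x : (grAlg i).presheaf.obj (op U)) :
    θ i hV j hW ((grAlg i).res hU hV e x) = θ i hU j (hW.trans (piece_mono i e j)) x := by
  obtain ⟨P, rfl⟩ := surjective_coneEval i hU x
  rw [θ_eval, ← ev_res (i := i) e (hW.trans (piece_le_chart i V j)) (hW.trans (piece_le_base i V j)), RingHom.comp_apply]
  exact (congrArg (θ i hV j hW) (congrArg (fun φ : _ →+* _ => φ P) (res_coneEval i e))).trans (θ_eval i hV j hW _)

theorem θ_scale {U : S.Opens} (hU : IsAffineOpen U) (j l : Fin (N + 1)) {W : X.Opens} (hj : W ≤ piece i U j)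
    (hl : W ≤ piece i U l) (d : ℕ) (x : (grAlg i).presheaf.obj (op U)) (hx : x ∈ (grAlg i).deg U hU d) :
    θ i hU l hl x = co (hl.trans (piece_le_chart i U l)) j ^ d * θ i hU j hj x := by
  obtain ⟨P, hP, rfl⟩ := (mem_imgDeg (coneEval i U)).1 hx
  rw [θ_eval, θ_eval]
  exact ev_scale _ _ _ ((mem_homogeneousSubmodule _ _).1 hP)

end Groth.Agent.HProj
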