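import Groth.Prelude.Def_CohB1
import Mathlib.RingTheory.GradedAlgebra.Basic

/-!
# The grading on a quotient of a polynomial ring by a map with homogeneous kernel
-/

universe u

open DirectSum MvPolynomial

noncomputable section

namespace Groth.Agent.HProj

variable {R B : Type u} [CommRing R] [CommRing B] {n : ℕ} (e : MvPolynomial (Fin (n + 1)) R →+* B)

/-- The images of the homogeneous polynomials. -/
def imgDeg (d : ℕ) : AddSubgroup B :=
  ((CohB1.polyGrading n R d).toAddSubgroup).map e.toAddMonoidHom

theorem mem_imgDeg {d : ℕ} {b : B} : b ∈ imgDeg e d ↔ ∃ a ∈ CohB1.polyGrading n R d, e a = b := Iff.rfl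

theorem map_mem_imgDeg {d : ℕ} {a : MvPolynomial (Fin (n + 1)) R} (ha : a ∈ CohB1.polyGrading n R d) :
    e a ∈ imgDeg e d := ⟨a, ha, rfl⟩

instance imgDeg_gradedMonoid : SetLike.GradedMonoid (imgDeg e) where
  one_mem := ⟨1, SetLike.one_mem_graded (CohB1.polyGrading n R), map_one e⟩
  mul_mem := by
    rintro i j _ _ ⟨a, ha, rfl⟩ ⟨b, hb, rfl⟩
    exact ⟨a * b, SetLike.mul_mem_graded (A := CohB1.polyGrading n R) ha hb, map_mul e a b⟩

/-- The decomposition of the source followed by the map. -/
def imgDecAux : MvPolynomial (Fin (n + 1)) R →+ ⨁ d, imgDeg e d :=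
  (DirectSum.toAddMonoid fun d => (DirectSum.of (fun d => imgDeg e d) d).comp
    { toFun := fun a => ⟨e a.1, map_mem_imgDeg e a.2⟩
      map_zero' := Subtype.ext (map_zero e)
      map_add' := fun a b => Subtype.ext (map_add e _ _) }).comp
    (DirectSum.decomposeAddEquiv (CohB1.polyGrading n R)).toAddMonoidHom

theorem imgDecAux_of_mem {d : ℕ} {a : MvPolynomial (Fin (n + 1)) R} (ha : a ∈ CohB1.polyGrading n R d) :
    imgDecAux e a = DirectSum.of (fun d => imgDeg e d) d ⟨e a, map_mem_imgDeg e ha⟩ := by
  simp only [imgDecAux, AddMonoidHom.comp_apply, AddEquiv.toAddMonoidHom_eq_coe, AddMonoidHom.coe_coe,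
    DirectSum.decomposeAddEquiv_apply, DirectSum.decompose_of_mem _ ha, DirectSum.toAddMonoid_of]
  rfl

theorem coe_imgDecAux (a : MvPolynomial (Fin (n + 1)) R) :
    DirectSum.coeAddMonoidHom (imgDeg e) (imgDecAux e a) = e a := by
  induction a using DirectSum.Decomposition.inductionOn (CohB1.polyGrading n R) with
  | zero => simp
  | @homogeneous d a => rw [imgDecAux_of_mem e a.2, DirectSum.coeAddMonoidHom_of]
  | add a b ha hb => rw [map_add, map_add, map_add, ha, hb]

variable (he : Function.Surjective e)
  (hk : ∀ a, e a = 0 → ∀ d, e (DirectSum.decompose (CohB1.polyGrading n R) a d : MvPolynomial (Fin (n + 1)) R) = 0)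

theorem imgDecAux_eq_zero {a : MvPolynomial (Fin (n + 1)) R}
    (hk : ∀ a, e a = 0 → ∀ d, e (DirectSum.decompose (CohB1.polyGrading n R) a d : MvPolynomial (Fin (n + 1)) R) = 0)
    (ha : e a = 0) : imgDecAux e a = 0 := by
  classical
  rw [← DirectSum.sum_support_decompose (CohB1.polyGrading n R) a, map_sum]
  refine Finset.sum_eq_zero fun d _ => ?_
  rw [imgDecAux_of_mem e (SetLike.coe_mem _)]
  rw [show (⟨e _, map_mem_imgDeg e (SetLike.coe_mem (DirectSum.decompose (CohB1.polyGrading n R) a d))⟩ :
    imgDeg e d) = 0 from Subtype.ext (hk a ha d), map_zero]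

include he hk in
/-- The images of the homogeneous polynomials form a grading. -/
abbrev imgGradedRing : GradedRing (imgDeg e) :=
  { imgDeg_gradedMonoid e with
    decompose' := fun b => imgDecAux e (Function.surjInv he b)
    left_inv := fun b => (coe_imgDecAux e _).trans (Function.surjInv_eq he b)
    right_inv := fun x => by
      induction x using DirectSum.induction_on with
      | zero => exact imgDecAux_eq_zero e hk (by rw [Function.surjInv_eq he, map_zero])
      | of d b =>
        obtain ⟨a, ha, hab⟩ := (mem_imgDeg e).1 b.2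
        have h0 : imgDecAux e (Function.surjInv he (DirectSum.coeAddMonoidHom (imgDeg e) (DirectSum.of _ d b)) - a) = 0 :=
          imgDecAux_eq_zero e hk (by rw [map_sub, Function.surjInv_eq he, DirectSum.coeAddMonoidHom_of, hab, sub_self])
        rw [map_sub, sub_eq_zero] at h0
        beta_reduce
        rw [h0, imgDecAux_of_mem e ha]
        congr 1
        exact Subtype.ext hab
      | add x y hx hy =>
        beta_reduce at hx hy ⊢
        have h0 : imgDecAux e (Function.surjInv he (DirectSum.coeAddMonoidHom (imgDeg e) (x + y)) -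
            (Function.surjInv he (DirectSum.coeAddMonoidHom (imgDeg e) x) +
              Function.surjInv he (DirectSum.coeAddMonoidHom (imgDeg e) y))) = 0 :=
          imgDecAux_eq_zero e hk (by simp only [map_sub, map_add, Function.surjInv_eq he, sub_self])
        rw [map_sub, sub_eq_zero, map_add (imgDecAux e), hx, hy] at h0
        exact h0 }

include he in
/-- The ring is generated by degrees zero and one. -/
theorem closure_imgDeg :
    Subring.closure ((imgDeg e 0 : Set B) ∪ (imgDeg e 1 : Set B)) = ⊤ := by
  rw [eq_top_iff]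
  intro b hb
  clear hb
  obtain ⟨a, rfl⟩ := he b
  induction a using MvPolynomial.induction_on with
  | C r => exact Subring.subset_closure (Or.inl ⟨C r, isHomogeneous_C _ r, rfl⟩)
  | add p q hp hq => rw [map_add]; exact add_mem hp hq
  | mul_X p k hp =>
    rw [map_mul]
    exact mul_mem hp (Subring.subset_closure (Or.inr ⟨MvPolynomial.X k, isHomogeneous_X R k, rfl⟩))

end Groth.Agent.HProj
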