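import Groth.Agent.HProj.Coords
import Groth.Agent.HProj.Grading
import Groth.Agent.ExistEasy.ChowNR.Basic
import Groth.Agent.ModPairLib.Coprod
import Groth.Prelude.Def_RelSpec
import Mathlib.AlgebraicGeometry.AffineSpace

/-!
# The affine cone over a closed subscheme of projective space
-/

universe u

open CategoryTheory CategoryTheory.Limits AlgebraicGeometry TopologicalSpace Opposite MvPolynomial

set_option backward.isDefEq.respectTransparency false
set_option backward.isDefEq.respectTransparency.types false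
set_option linter.style.haveILetI false

noncomputable section

namespace Groth.Agent.HProj

open Groth.Agent

/-- A section vanishing on the members of a covering family of open immersions is zero. -/
theorem eq_zero_of_appLE_eq_zero {Y : Scheme.{u}} {V : Y.Opens} (s : Γ(Y, V)) {ι : Type*}
    {A : ι → Scheme.{u}} (h : ∀ a, A a ⟶ Y) [∀ a, IsOpenImmersion (h a)] (hle : ∀ a, (⊤ : (A a).Opens) ≤ h a ⁻¹ᵁ V)
    (hcov : ∀ y ∈ V, ∃ a x, h a x = y) (hs : ∀ a, (h a).appLE V ⊤ (hle a) s = 0) : s = 0 := by
  refine TopCat.Presheaf.section_ext Y.sheaf V s 0 fun y hy => ?_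
  obtain ⟨a, x, rfl⟩ := hcov y hy
  show Y.presheaf.germ V (h a x) hy s = Y.presheaf.germ V (h a x) hy 0
  apply (ConcreteCategory.bijective_of_isIso ((h a).stalkMap x)).1
  rw [Scheme.Hom.germ_stalkMap_apply, Scheme.Hom.germ_stalkMap_apply, map_zero, map_zero]
  have := hs a
  rw [Scheme.Hom.appLE, CommRingCat.comp_apply] at this
  have h2 : (A a).presheaf.germ ⊤ x trivial ((A a).presheaf.map (homOfLE (hle a)).op ((h a).app V s)) = 0 := by
    rw [this, map_zero]
  rwa [TopCat.Presheaf.germ_res_apply] at h2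

theorem quasiCompact_sigmaDesc' {Y : Scheme.{u}} {ι : Type u} [Finite ι] {A : ι → Scheme.{u}} (f : ∀ a, A a ⟶ Y)
    (h : ∀ a, QuasiCompact (f a)) : QuasiCompact (Limits.Sigma.desc f) := by
  haveI := h
  refine (quasiCompact_iff _).2 fun V hV hc => ?_
  have e : (Limits.Sigma.desc f) ⁻¹' V = ⋃ a, Limits.Sigma.ι A a '' ((f a) ⁻¹' V) := by
    ext y
    obtain ⟨a, z, rfl⟩ := ModPairLib.sigma_surj A y
    simp only [Set.mem_preimage, Set.mem_iUnion, Set.mem_image]
    constructor
    · intro hy
      refine ⟨a, z, ?_, rfl⟩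
      rwa [← Scheme.Hom.comp_apply, Sigma.ι_desc] at hy
    · rintro ⟨b, w, hw, hwz⟩
      rwa [← hwz, ← Scheme.Hom.comp_apply, Sigma.ι_desc]
  rw [e]
  exact isCompact_iUnion fun a => (((quasiCompact_iff _).1 (h a)) V hV hc).image (Limits.Sigma.ι A a).continuous

variable {S X : Scheme.{u}} {N : ℕ} (i : X ⟶ CohB1.ProjSpaceOver N S)

/-- The variables. -/
abbrev Idx (N : ℕ) : Type u := ULift.{u} (Fin (N + 1))

/-- Affine space of dimension `N + 1`. -/
abbrev AN (S : Scheme.{u}) (N : ℕ) : Scheme.{u} := 𝔸(Idx.{u} N; S)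

/-- A chart times the line. -/
abbrev Line (W : X.Opens) : Scheme.{u} := 𝔸(PUnit.{u + 1}; W.toScheme)

/-- The parameter of the line. -/
abbrev param (W : X.Opens) : Γ(Line W, ⊤) := AffineSpace.coord W.toScheme PUnit.unit

/-- The punctured cone over a chart. -/
def coneMap {j : Fin (N + 1)} {W : X.Opens} (h : W ≤ chartOpen i j) : Line W ⟶ AN S N :=
  AffineSpace.homOfVector ((Line W ↘ W.toScheme) ≫ W.ι ≫ str i)
    (fun k => param W * (Line W ↘ W.toScheme).appTop (co h k.down))

/-- The union of the punctured cones. -/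
def coneDesc : (∐ fun j : Idx.{u} N => Line (chartOpen i j.down)) ⟶ AN S N :=
  Limits.Sigma.desc fun j => coneMap i (le_refl (chartOpen i j.down))

theorem coneMap_over {j : Fin (N + 1)} {W : X.Opens} (h : W ≤ chartOpen i j) :
    coneMap i h ≫ (AN S N ↘ S) = (Line W ↘ W.toScheme) ≫ W.ι ≫ str i :=
  AffineSpace.homOfVector_over _ _

theorem map_coneMap {j : Fin (N + 1)} {W W' : X.Opens} (h : W ≤ chartOpen i j) (e : W' ≤ W) :
    AffineSpace.map PUnit.{u + 1} (X.homOfLE e) ≫ coneMap i h = coneMap i (e.trans h) := by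
  rw [coneMap, AffineSpace.comp_homOfVector, coneMap]
  congr 1
  · rw [AffineSpace.map_over_assoc, Scheme.homOfLE_ι_assoc]
  · funext k
    show (AffineSpace.map PUnit.{u + 1} (X.homOfLE e)).appTop _ = _
    rw [map_mul, param, AffineSpace.map_appTop_coord, ← res_co h e, ← CommRingCat.comp_apply,
      ← Scheme.Hom.comp_appTop, AffineSpace.map_over, Scheme.Hom.comp_appTop, CommRingCat.comp_apply]

instance quasiCompact_chart_ι (j : Fin (N + 1)) : QuasiCompact (chartOpen i j).ι := by
  let D := Proj.basicOpen (CohB1.polyGrading N (ULift.{u} ℤ)) (MvPolynomial.X j : MvPolynomial (Fin (N + 1)) (ULift.{u} ℤ))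
  haveI : IsProper (CohB1.ProjSpace.toSpec N (ULift.{u} ℤ)) := PnCoh.Chow.isProper_toSpec N _
  haveI : (SegreX.PZ.{u} N).IsSeparated := ⟨by
    rw [← terminal.comp_from (CohB1.ProjSpace.toSpec N (ULift.{u} ℤ))]
    exact MorphismProperty.comp_mem @IsSeparated _ _ inferInstance inferInstance⟩
  haveI : IsAffine D.toScheme := Proj.isAffineOpen_basicOpen _ _ (ProjPt.X_mem j) one_pos
  haveI : QuasiCompact D.ι := quasiCompact_of_compactSpace _
  exact MorphismProperty.of_isPullback (isPullback_morphismRestrict (toPZ i) D) ‹QuasiCompact D.ι›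

variable [IsClosedImmersion i]

instance isProper_str : IsProper (str i) := by
  haveI := TwistFlat.isProper_toBase N (Y := S)
  exact inferInstanceAs (IsProper (i ≫ _))

instance quasiCompact_coneDesc : QuasiCompact (coneDesc i) := by
  haveI : QuasiCompact (coneDesc i ≫ (AN S N ↘ S)) := by
    rw [coneDesc]
    have : (Limits.Sigma.desc fun j : Idx.{u} N => coneMap i (le_refl (chartOpen i j.down))) ≫ (AN S N ↘ S) =
        Limits.Sigma.desc fun j : Idx.{u} N => (Line (chartOpen i j.down) ↘ (chartOpen i j.down).toScheme) ≫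
          (chartOpen i j.down).ι ≫ str i :=
      Limits.Sigma.hom_ext _ _ fun j => by rw [Sigma.ι_desc_assoc, Sigma.ι_desc, coneMap_over]
    rw [this]
    exact quasiCompact_sigmaDesc' _ fun j => inferInstance
  exact QuasiCompact.of_comp (coneDesc i) (AN S N ↘ S)

/-- The affine cone. -/
def cone : Scheme.{u} := (coneDesc i).image

/-- Its embedding. -/
def coneι : cone i ⟶ AN S N := (coneDesc i).imageι

instance : IsClosedImmersion (coneι i) :=
  inferInstanceAs (IsClosedImmersion (Scheme.IdealSheafData.subschemeι _))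

/-- Its structure map. -/
def coneπ : cone i ⟶ S := coneι i ≫ (AN S N ↘ S)

instance : IsAffineHom (coneπ i) :=
  inferInstanceAs (IsAffineHom (coneι i ≫ (AN S N ↘ S)))

/-- The functions on the cone over an open. -/
abbrev coneRing (U : S.Opens) : Type u := Γ(cone i, coneπ i ⁻¹ᵁ U)

/-- The coordinate functions. -/
def coneCoord (U : S.Opens) (k : Fin (N + 1)) : coneRing i U :=
  (coneι i).appLE ⊤ (coneπ i ⁻¹ᵁ U) (fun _ _ => trivial) (AffineSpace.coord S (ULift.up k))

/-- Polynomials as functions on the cone. -/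
def coneEval (U : S.Opens) : MvPolynomial (Fin (N + 1)) Γ(S, U) →+* coneRing i U :=
  eval₂Hom ((coneπ i).app U).hom (coneCoord i U)

/-- The cone over a chart over `U` maps to the cone over `U`. -/
def pieceCone (U : S.Opens) (j : Fin (N + 1)) : Line (piece i U j) ⟶ cone i :=
  AffineSpace.map PUnit.{u + 1} (X.homOfLE (piece_le_chart i U j)) ≫
    Limits.Sigma.ι (fun j : Idx.{u} N => Line (chartOpen i j.down)) (ULift.up j) ≫ (coneDesc i).toImage

theorem pieceCone_ι (U : S.Opens) (j : Fin (N + 1)) :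
    pieceCone i U j ≫ coneι i = coneMap i (piece_le_chart i U j) := by
  rw [pieceCone, Category.assoc, Category.assoc, coneι, Scheme.Hom.toImage_imageι, coneDesc, Sigma.ι_desc, map_coneMap]

theorem pieceCone_π (U : S.Opens) (j : Fin (N + 1)) :
    pieceCone i U j ≫ coneπ i = (Line (piece i U j) ↘ (piece i U j).toScheme) ≫ (piece i U j).ι ≫ str i := by
  rw [coneπ, reassoc_of% pieceCone_ι i U j, coneMap_over]

theorem top_le_pieceCone (U : S.Opens) (j : Fin (N + 1)) :
    (⊤ : (Line (piece i U j)).Opens) ≤ pieceCone i U j ⁻¹ᵁ (coneπ i ⁻¹ᵁ U) := by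
  rw [← Scheme.Hom.comp_preimage, pieceCone_π]
  intro x _
  exact piece_le_base i U j (Subtype.prop _)

theorem pieceCone_eval (U : S.Opens) (j : Fin (N + 1)) :
    ((pieceCone i U j).appLE (coneπ i ⁻¹ᵁ U) ⊤ (top_le_pieceCone i U j)).hom.comp (coneEval i U) =
      eval₂Hom ((Line (piece i U j) ↘ (piece i U j).toScheme).appTop.hom.comp (base (piece_le_base i U j)))
        (fun k => param (piece i U j) * (Line (piece i U j) ↘ (piece i U j).toScheme).appTop
          (co (piece_le_chart i U j) k)) := by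
  refine MvPolynomial.ringHom_ext (fun a => ?_) fun k => ?_
  · rw [RingHom.comp_apply, coneEval, eval₂Hom_C, eval₂Hom_C, RingHom.comp_apply, base]
    rw [← CommRingCat.comp_apply, ← CommRingCat.comp_apply]
    congr 2
    rw [Scheme.Hom.app_eq_appLE, Scheme.Hom.appLE_comp_appLE, Scheme.Hom.appTop, Scheme.Hom.app_eq_appLE,
      Scheme.Hom.appLE_comp_appLE]
    exact PnCoh.Chow.appLE_congr_hom (pieceCone_π i U j) U ⊤ _
  · rw [RingHom.comp_apply, coneEval, eval₂Hom_X', eval₂Hom_X', coneCoord, ← CommRingCat.comp_apply,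
      Scheme.Hom.appLE_comp_appLE, PnCoh.Chow.appLE_congr_hom (pieceCone_ι i U j) ⊤ ⊤]
    rw [show (coneMap i (piece_le_chart i U j)).appLE ⊤ ⊤ le_top = (coneMap i (piece_le_chart i U j)).appTop from
      (Scheme.Hom.app_eq_appLE _ (U := ⊤)).symm]
    exact AffineSpace.homOfVector_appTop_coord _ _ _

theorem decompose_eq {R : Type u} [CommRing R] (P : MvPolynomial (Fin (N + 1)) R) (d : ℕ) :
    (DirectSum.decompose (CohB1.polyGrading N R) P d : MvPolynomial (Fin (N + 1)) R) = homogeneousComponent d P :=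
  MvPolynomial.decomposition.decompose'_apply P d

/-- A polynomial vanishes on the cone exactly when its homogeneous parts vanish on all charts. -/
theorem coneEval_eq_zero_iff {U : S.Opens} (hU : IsAffineOpen U) (P : MvPolynomial (Fin (N + 1)) Γ(S, U)) :
    coneEval i U P = 0 ↔ ∀ j d, ev (piece_le_chart i U j) (piece_le_base i U j)
      (DirectSum.decompose (CohB1.polyGrading N Γ(S, U)) P d : MvPolynomial (Fin (N + 1)) Γ(S, U)) = 0 := by
  classical
  -- the value on the cone over a chart, as a polynomial in the parameter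
  let φ : ∀ j, MvPolynomial (Fin (N + 1)) Γ(S, U) →+* MvPolynomial PUnit.{u + 1} Γ((piece i U j).toScheme, ⊤) :=
    fun j => eval₂Hom (MvPolynomial.C.comp (base (piece_le_base i U j)))
      (fun k => MvPolynomial.X PUnit.unit * MvPolynomial.C (co (piece_le_chart i U j) k))
  have key : ∀ j, (pieceCone i U j).appLE (coneπ i ⁻¹ᵁ U) ⊤ (top_le_pieceCone i U j) (coneEval i U P) = 0 ↔
      φ j P = 0 := by
    intro j
    haveI : IsAffine (piece i U j).toScheme := isAffineOpen_piece i hU j
    let L := eval₂Hom (Line (piece i U j) ↘ (piece i U j).toScheme).appTop.hom (AffineSpace.coord (piece i U j).toScheme (n := PUnit.{u + 1}))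
    have hL : Function.Injective L := by
      have h := (ConcreteCategory.bijective_of_isIso (C := CommRingCat)
        ((AffineSpace.isoOfIsAffine PUnit.{u + 1} (piece i U j).toScheme).hom.appTop)).1
      rw [AffineSpace.isoOfIsAffine_hom_appTop] at h
      intro a b hab
      have := @h ((Scheme.ΓSpecIso _).inv a) ((Scheme.ΓSpecIso _).inv b)
        (by simp only [CommRingCat.comp_apply, Iso.inv_hom_id_apply]; exact hab)
      simpa only [Iso.inv_hom_id_apply] using congrArg (Scheme.ΓSpecIso (CommRingCat.of (MvPolynomial PUnit.{u + 1} Γ((piece i U j).toScheme, ⊤)))).hom this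
    have hc : L.comp (φ j) = _ := (comp_eval₂Hom _ _ L)
    rw [show (pieceCone i U j).appLE (coneπ i ⁻¹ᵁ U) ⊤ (top_le_pieceCone i U j) (coneEval i U P) = L (φ j P) from ?_]
    · exact map_eq_zero_iff L hL
    · refine (congrArg (fun ψ : _ →+* _ => ψ P) (pieceCone_eval i U j)).trans ?_
      refine Eq.trans ?_ (congrArg (fun ψ : _ →+* _ => ψ P) hc).symm
      congr 2
      · ext a
        show _ = L (MvPolynomial.C _)
        rw [eval₂Hom_C]
        rfl
      funext k
      show _ = L (MvPolynomial.X _ * MvPolynomial.C _)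
      rw [map_mul, eval₂Hom_X', eval₂Hom_C]
  have hφ : ∀ j d, ∀ a ∈ CohB1.polyGrading N Γ(S, U) d, φ j a =
      MvPolynomial.X PUnit.unit ^ d * MvPolynomial.C (ev (piece_le_chart i U j) (piece_le_base i U j) a) := by
    intro j d a ha
    refine (ProjPt.eval₂Hom_scale (MvPolynomial.C.comp (base (piece_le_base i U j)))
      (fun k => MvPolynomial.C (co (piece_le_chart i U j) k))
      (fun k => MvPolynomial.X PUnit.unit * MvPolynomial.C (co (piece_le_chart i U j) k)) _
      (fun _ => rfl) ((mem_homogeneousSubmodule _ _).1 ha)).trans ?_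
    congr 1
    rw [ev]
    exact (congrArg (fun ψ : _ →+* _ => ψ a) (comp_eval₂Hom (base (piece_le_base i U j))
      (co (piece_le_chart i U j)) MvPolynomial.C)).symm
  have hsum : ∀ j, φ j P = 0 ↔ ∀ d, ev (piece_le_chart i U j) (piece_le_base i U j)
      (DirectSum.decompose (CohB1.polyGrading N Γ(S, U)) P d : MvPolynomial (Fin (N + 1)) Γ(S, U)) = 0 := by
    intro j
    set 𝒜 := CohB1.polyGrading N Γ(S, U)
    have e0 : φ j P = ∑ d ∈ (DirectSum.decompose 𝒜 P).support, MvPolynomial.monomial (Finsupp.single PUnit.unit d)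
        (ev (piece_le_chart i U j) (piece_le_base i U j) (DirectSum.decompose 𝒜 P d : MvPolynomial (Fin (N + 1)) Γ(S, U))) := by
      conv_lhs => rw [← DirectSum.sum_support_decompose 𝒜 P]
      rw [map_sum]
      refine Finset.sum_congr rfl fun d _ => ?_
      rw [hφ j d _ (SetLike.coe_mem _), MvPolynomial.X_pow_eq_monomial, mul_comm, MvPolynomial.C_mul_monomial, mul_one]
    refine ⟨fun h d => ?_, fun h => ?_⟩
    · have := congrArg (MvPolynomial.coeff (Finsupp.single PUnit.unit d)) (e0.symm.trans h)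
      rw [MvPolynomial.coeff_sum, MvPolynomial.coeff_zero] at this
      by_cases hd : d ∈ (DirectSum.decompose 𝒜 P).support
      · rw [Finset.sum_eq_single d] at this
        · rwa [MvPolynomial.coeff_monomial, if_pos rfl] at this
        · intro b _ hb
          rw [MvPolynomial.coeff_monomial, if_neg]
          exact fun h' => hb (Finsupp.single_injective _ h')
        · exact fun h' => absurd hd h'
      · rw [DFinsupp.notMem_support_iff.1 hd, ZeroMemClass.coe_zero, map_zero]
    · rw [e0]
      exact Finset.sum_eq_zero fun d _ => by rw [h d, map_zero]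
  refine ⟨fun h j d => ((hsum j).1 ((key j).1 (by rw [h, map_zero]))) d, fun h => ?_⟩
  let γ := (coneDesc i).toImage
  haveI : QuasiCompact γ := inferInstanceAs (QuasiCompact (coneDesc i).toImage)
  refine (map_eq_zero_iff (γ.app (coneπ i ⁻¹ᵁ U)).hom (ExistEasy.ChowNR.toImage_app_injective' (coneDesc i) _)).1 ?_
  let g : ∀ j : Fin (N + 1), Line (piece i U j) ⟶ (∐ fun j : Idx.{u} N => Line (chartOpen i j.down)) := fun j =>
    AffineSpace.map PUnit.{u + 1} (X.homOfLE (piece_le_chart i U j)) ≫
      Limits.Sigma.ι (fun j : Idx.{u} N => Line (chartOpen i j.down)) (ULift.up j)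
  haveI : ∀ j, IsOpenImmersion (AffineSpace.map PUnit.{u + 1} (X.homOfLE (piece_le_chart i U j))) := fun j =>
    MorphismProperty.of_isPullback (AffineSpace.isPullback_map (X.homOfLE (piece_le_chart i U j))).flip inferInstance
  haveI : ∀ j, IsOpenImmersion (g j) := fun j => inferInstanceAs (IsOpenImmersion (_ ≫ _))
  have hg : ∀ j, g j ≫ γ = pieceCone i U j := fun j => Category.assoc _ _ _
  refine eq_zero_of_appLE_eq_zero _ g (fun j => ?_) (fun y hy => ?_) fun j => ?_
  · rw [← Scheme.Hom.comp_preimage, hg]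
    exact top_le_pieceCone i U j
  · obtain ⟨⟨j⟩, z, rfl⟩ := ModPairLib.sigma_surj (fun j : Idx.{u} N => Line (chartOpen i j.down)) y
    have hz : ((Line (chartOpen i j) ↘ (chartOpen i j).toScheme) z).1 ∈ piece i U j := by
      refine ⟨((Line (chartOpen i j) ↘ (chartOpen i j).toScheme) z).2, ?_⟩
      have hπ : Limits.Sigma.ι (fun j : Idx.{u} N => Line (chartOpen i j.down)) ⟨j⟩ ≫ γ ≫ coneπ i =
          (Line (chartOpen i j) ↘ (chartOpen i j).toScheme) ≫ (chartOpen i j).ι ≫ str i := by
        rw [coneπ, coneι, Scheme.Hom.toImage_imageι_assoc, coneDesc, Sigma.ι_desc_assoc, coneMap_over]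
      have := congr($hπ z)
      simp only [Scheme.Hom.comp_apply] at this
      show str i ((chartOpen i j).ι _) ∈ U
      rw [← this]
      exact hy
    have hr : z ∈ Set.range (AffineSpace.map PUnit.{u + 1} (X.homOfLE (piece_le_chart i U j))) := by
      obtain ⟨w, hw⟩ : ((Line (chartOpen i j) ↘ (chartOpen i j).toScheme) z) ∈ Set.range (X.homOfLE (piece_le_chart i U j)) := by
        refine ⟨⟨_, hz⟩, Subtype.ext ?_⟩
        simp
      obtain ⟨v, hv, -⟩ := Scheme.exists_preimage_of_isPullback (AffineSpace.isPullback_map (X.homOfLE (piece_le_chart i U j))) z w hw.symm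
      exact ⟨v, hv⟩
    obtain ⟨v, rfl⟩ := hr
    exact ⟨j, v, rfl⟩
  · rw [← CommRingCat.comp_apply, Scheme.Hom.app_eq_appLE, Scheme.Hom.appLE_comp_appLE,
      PnCoh.Chow.appLE_congr_hom (hg j)]
    exact (key j).2 ((hsum j).2 (h j))

/-- Over an affine open the functions on the cone are the polynomial functions. -/
theorem surjective_coneEval {U : S.Opens} (hU : IsAffineOpen U) : Function.Surjective (coneEval i U) := by
  haveI : IsAffine U.toScheme := hU
  haveI : IsAffine (coneπ i ⁻¹ᵁ U).toScheme := hU.preimage (coneπ i)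
  let σ : (coneπ i ⁻¹ᵁ U).toScheme ⟶ 𝔸(Idx.{u} N; U.toScheme) :=
    AffineSpace.homOfVector (coneπ i ∣_ U)
      (fun k => ((coneπ i ⁻¹ᵁ U).ι ≫ coneι i).appTop (AffineSpace.coord S k))
  have hσ : σ ≫ AffineSpace.map (Idx.{u} N) U.ι = (coneπ i ⁻¹ᵁ U).ι ≫ coneι i := by
    apply AffineSpace.hom_ext
    · rw [Category.assoc, AffineSpace.map_over, AffineSpace.homOfVector_over_assoc, morphismRestrict_ι, Category.assoc]
      rfl
    · intro k
      rw [Scheme.Hom.comp_appTop, CommRingCat.comp_apply, AffineSpace.map_appTop_coord,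
        AffineSpace.homOfVector_appTop_coord]
  haveI : IsClosedImmersion σ := by
    have h : IsPullback σ (coneπ i ⁻¹ᵁ U).ι (AffineSpace.map (Idx.{u} N) U.ι) (coneι i) := by
      haveI : IsOpenImmersion (AffineSpace.map (Idx.{u} N) U.ι) :=
        MorphismProperty.of_isPullback (AffineSpace.isPullback_map U.ι).flip inferInstance
      refine IsOpenImmersion.isPullback _ _ _ _ hσ.symm ?_
      rw [Scheme.Opens.opensRange_ι]
      ext x
      show coneι i x ∈ Set.range (AffineSpace.map (Idx.{u} N) U.ι) ↔ (AN S N ↘ S) (coneι i x) ∈ U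
      constructor
      · rintro ⟨y, hy⟩
        rw [← hy, ← Scheme.Hom.comp_apply, AffineSpace.map_over]
        exact Subtype.prop _
      · intro hx
        obtain ⟨v, hv, -⟩ := Scheme.exists_preimage_of_isPullback (AffineSpace.isPullback_map U.ι) (coneι i x)
          ⟨_, hx⟩ rfl
        exact ⟨v, hv⟩
    exact MorphismProperty.of_isPullback h.flip inferInstance
  intro x
  obtain ⟨y, hy⟩ := (IsClosedImmersion.isAffine_surjective_of_isAffine σ).2 ((coneπ i ⁻¹ᵁ U).topIso.inv x)
  obtain ⟨Q, rfl⟩ : ∃ Q, eval₂Hom ((𝔸(Idx.{u} N; U.toScheme) ↘ U.toScheme).appTop).hom (AffineSpace.coord U.toScheme) Q = y := by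
    obtain ⟨z, rfl⟩ := (ConcreteCategory.bijective_of_isIso (C := CommRingCat)
      ((AffineSpace.isoOfIsAffine (Idx.{u} N) U.toScheme).hom.appTop)).2 y
    rw [AffineSpace.isoOfIsAffine_hom_appTop]
    exact ⟨_, rfl⟩
  refine ⟨MvPolynomial.rename ULift.down (MvPolynomial.map U.topIso.hom.hom Q), ?_⟩
  apply (ConcreteCategory.bijective_of_isIso (C := CommRingCat) (coneπ i ⁻¹ᵁ U).topIso.inv).1
  rw [← hy]
  clear hy
  induction Q using MvPolynomial.induction_on with
  | C a =>
    rw [MvPolynomial.map_C, MvPolynomial.rename_C, coneEval, eval₂Hom_C, eval₂Hom_C]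
    show ((U.topIso.hom ≫ (coneπ i).app U) ≫ (coneπ i ⁻¹ᵁ U).topIso.inv).hom a =
      (((𝔸(Idx.{u} N; U.toScheme) ↘ U.toScheme).appTop) ≫ σ.appTop).hom a
    rw [← Scheme.Hom.comp_appTop, AffineSpace.homOfVector_over]
    congr 2
    simp [Scheme.Opens.topIso, Scheme.Hom.app_eq_appLE, morphismRestrict_appLE]
  | add p q hp hq => simp only [map_add, hp, hq]
  | mul_X p k hp =>
    simp only [map_mul, hp]
    congr 1
    rw [MvPolynomial.map_X, MvPolynomial.rename_X, coneEval, eval₂Hom_X', eval₂Hom_X',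
      AffineSpace.homOfVector_appTop_coord, coneCoord, Scheme.Hom.comp_appTop, CommRingCat.comp_apply]
    rw [← CommRingCat.comp_apply, ← CommRingCat.comp_apply]
    congr 2
    simp [Scheme.Opens.topIso, Scheme.Hom.appLE, Scheme.Hom.appTop, Scheme.Opens.ι_app]
    congr 1
    rw [← Functor.map_comp]
    exact congrArg _ (Subsingleton.elim _ _)

end Groth.Agent.HProj
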